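import Groth.Agent.RGFlatLib.Separate
import Groth.Agent.NagataCompLib.Tools

/-! A centre separating closures of preimages, and wide fibre products of proper morphisms. -/

set_option autoImplicit false
universe u

open CategoryTheory CategoryTheory.Limits AlgebraicGeometry TopologicalSpace

namespace RGSepLib

/-- Blow up so that the closure of the preimage of a closed subset of an open separates as far as given. -/
theorem exists_center {X₁ X₂ : Scheme.{u}} [CompactSpace X₁] [QuasiSeparatedSpace X₁] (q : X₂ ⟶ X₁)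
    [QuasiCompact q] (V₁ : X₁.Opens) (hV₁ : IsCompact (V₁ : Set X₁)) (J₁ : X₁.IdealSheafData)
    (hJ₁ : BlowUp.IsFiniteTypeIdeal J₁) (Z₂ : Set X₂) (hZ₂ : IsClosed Z₂) (hZ₂c : IsCompact Z₂ᶜ)
    (hYZ : ∀ x, q x ∈ (J₁.support : Set X₁) → q x ∈ V₁ → x ∈ Z₂) :
    ∃ E : X₁.IdealSheafData, BlowUp.IsAdmissibleFor V₁ E ∧
      ∀ (X₁' : Scheme.{u}) (c : X₁' ⟶ X₁), BlowUp.IsBlowUp c E →
      ∀ (T : Scheme.{u}) (a : T ⟶ X₂) (b : T ⟶ X₁'), a ≫ q = b ≫ c →
      ∀ t : T, t ∈ closure {y | q (a y) ∈ V₁} →
        b t ∈ closure (c ⁻¹' ((J₁.support : Set X₁) ∩ V₁)) → a t ∈ Z₂ := by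
  classical
  let W : X₂.Opens := ⟨Z₂ᶜ, hZ₂.isOpen_compl⟩
  haveI : CompactSpace ↥(W : Scheme.{u}) := isCompact_iff_compactSpace.mp hZ₂c
  let p : (W : Scheme.{u}) ⟶ X₁ := W.ι ≫ q
  haveI : QuasiCompact p := NagataCompLib.quasiCompact_of_compactSpace p
  let K := (J₁.comap p).map p
  have hKd : ∀ x ∈ V₁, x ∉ (K.support : Set X₁) := by
    intro x hx hxK
    rw [Scheme.IdealSheafData.support_map] at hxK
    obtain ⟨_, hyV, w, hw, rfl⟩ := mem_closure_iff.mp hxK V₁ V₁.isOpen hx
    rw [Scheme.IdealSheafData.support_comap] at hw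
    exact w.2 (hYZ _ hw hyV)
  have key : ∀ x : V₁, ∃ (M : X₁.IdealSheafData), (∀ V, (M.ideal V).FG) ∧ M ≤ K ∧ x.1 ∉ (M.support : Set X₁) := by
    intro x
    obtain ⟨O, hO, hxO⟩ := QCohLib.exists_affine_nhd x.1
    have hx := hKd x.1 x.2
    rw [SetLike.mem_coe, Scheme.IdealSheafData.mem_support_iff_of_mem (U := ⟨O, hO⟩) hxO, Scheme.mem_zeroLocus_iff] at hx
    push Not at hx
    obtain ⟨a, ha, hxa⟩ := hx
    obtain ⟨M, hM, hMK, haM⟩ := RGFlatLib.exists_ft_le K ⟨O, hO⟩ (Ideal.span {a}) (Submodule.fg_span_singleton a)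
      ((Ideal.span_singleton_le_iff_mem _).mpr ha)
    refine ⟨M, hM, hMK, fun h => ?_⟩
    rw [SetLike.mem_coe, Scheme.IdealSheafData.mem_support_iff_of_mem (U := ⟨O, hO⟩) hxO, Scheme.mem_zeroLocus_iff] at h
    exact h a (haM (Ideal.mem_span_singleton_self a)) hxa
  choose M hM hMK hMx using key
  obtain ⟨u, hu⟩ := hV₁.elim_finite_subcover (fun x : V₁ => ((M x).support : Set X₁)ᶜ)
    (fun x => (M x).support.isClosed.isOpen_compl) (fun x hx => Set.mem_iUnion.mpr ⟨⟨x, hx⟩, hMx ⟨x, hx⟩⟩)
  let E := J₁ ⊔ u.sup M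
  have hEft : BlowUp.IsFiniteTypeIdeal E := by
    refine ModPairLib.fg_sup hJ₁ ?_
    clear hu E
    induction u using Finset.induction_on with
    | empty => intro V; rw [Finset.sup_empty, Scheme.IdealSheafData.ideal_bot, Pi.bot_apply]; exact Submodule.fg_bot
    | insert W' s' _ ih' => rw [Finset.sup_insert]; exact ModPairLib.fg_sup (hM W') ih'
  have hEV : ∀ x ∈ (E.support : Set X₁), x ∉ V₁ := fun x hx hxV => by
    obtain ⟨i, hi, hxi⟩ := Set.mem_iUnion₂.mp (hu hxV)
    exact hxi (Scheme.IdealSheafData.support_antitone ((Finset.le_sup (f := M) hi).trans le_sup_right) hx)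
  refine ⟨E, ⟨hEft, Set.disjoint_left.mpr fun x hx hxV => hEV x hx hxV⟩,
    fun X₁' c hc T a b hab t ht hbt => ?_⟩
  by_contra htW
  obtain ⟨J, hJ⟩ := ModPairLib.exists_mul_eq hc.1
    (Scheme.IdealSheafData.comap_mono c (le_sup_left (a := J₁) (b := u.sup M)))
  have hJ' : J * E.comap c = J₁.comap c := hJ
  have hJF : closure (c ⁻¹' ((J₁.support : Set X₁) ∩ V₁)) ⊆ (J.support : Set X₁') := by
    refine closure_minimal (fun y hy => ?_) J.support.isClosed
    have h : y ∈ ((J₁.comap c).support : Set X₁') := by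
      rw [Scheme.IdealSheafData.support_comap]
      exact hy.1
    rw [← hJ', Scheme.IdealSheafData.support_mul] at h
    refine h.resolve_right fun h' => ?_
    rw [SetLike.mem_coe, ← SetLike.mem_coe, Scheme.IdealSheafData.support_comap] at h'
    exact hEV _ h' hy.2
  let O : T.Opens := a ⁻¹ᵁ W
  let s : (O : Scheme.{u}) ⟶ X₁' := O.ι ≫ b
  let r : (O : Scheme.{u}) ⟶ (W : Scheme.{u}) := a ∣_ W
  have hr : r ≫ p = s ≫ c := by
    simp only [r, p, s, Category.assoc, ← hab]
    rw [← Category.assoc, morphismRestrict_ι, Category.assoc]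
  have hEK : E.comap p ≤ J₁.comap p := by
    refine Scheme.IdealSheafData.le_map_iff_comap_le.mp (sup_le ?_ (Finset.sup_le fun i _ => hMK i))
    exact Scheme.IdealSheafData.le_map_iff_comap_le.mpr le_rfl
  have heq : J.comap s * (E.comap c).comap s = (E.comap c).comap s := by
    have h := congrArg (fun S : X₁'.IdealSheafData => S.comap s) hJ'
    simp only [BlowUpLib.comap_mul] at h
    rw [h, ← Scheme.IdealSheafData.comap_comp, ← Scheme.IdealSheafData.comap_comp, ← hr]
    have h3 : (J₁.comap p).comap r ≤ (E.comap p).comap r := by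
      refine Scheme.IdealSheafData.comap_mono r ?_
      exact Scheme.IdealSheafData.comap_mono p (le_sup_left (a := J₁) (b := u.sup M))
    have h4 : (E.comap p).comap r ≤ (J₁.comap p).comap r := Scheme.IdealSheafData.comap_mono r hEK
    exact (Scheme.IdealSheafData.comap_comp _ _ _).trans
      ((le_antisymm h3 h4).trans (Scheme.IdealSheafData.comap_comp _ _ _).symm)
  let z : ↥(O : Scheme.{u}) := ⟨t, htW⟩
  obtain ⟨N, hN, hzN⟩ := QCohLib.exists_affine_nhd (X := (O : Scheme.{u})) z
  have hfg : (((E.comap c).comap s).ideal ⟨N, hN⟩).FG :=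
    RGFlatLib.isFiniteTypeIdeal_comap (RGFlatLib.isFiniteTypeIdeal_comap hEft c) s ⟨N, hN⟩
  have hle : ((E.comap c).comap s).ideal ⟨N, hN⟩ ≤
      (J.comap s).ideal ⟨N, hN⟩ • ((E.comap c).comap s).ideal ⟨N, hN⟩ := by
    have := congrArg (fun S : (O : Scheme.{u}).IdealSheafData => S.ideal ⟨N, hN⟩) heq
    simp only [Scheme.IdealSheafData.ideal_mul, Pi.mul_apply] at this
    exact this.ge
  obtain ⟨e, he1, he0⟩ := Submodule.exists_sub_one_mem_and_smul_eq_zero_of_fg_of_le_smul _ _ hfg hle
  have hzJ : z ∈ ((J.comap s).support : Set ↥(O : Scheme.{u})) := by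
    rw [Scheme.IdealSheafData.support_comap]
    exact hJF hbt
  rw [SetLike.mem_coe, Scheme.IdealSheafData.mem_support_iff_of_mem (U := ⟨N, hN⟩) hzN,
    Scheme.mem_zeroLocus_iff] at hzJ
  have hze : z ∈ (O : Scheme.{u}).basicOpen e := by
    have h1 := hzJ _ he1
    by_contra h2
    rw [Scheme.mem_basicOpen _ _ z hzN] at h1 h2
    rw [map_sub, map_one] at h1
    rcases IsLocalRing.isUnit_or_isUnit_one_sub_self (((O : Scheme.{u}).presheaf.germ N z hzN).hom e) with h3 | h3
    · exact h2 h3
    · exact h1 (by rw [← IsUnit.neg_iff, neg_sub]; exact h3)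
  have hsub : ∀ y ∈ (O : Scheme.{u}).basicOpen e, c (s y) ∈ (E.support : Set X₁) := by
    intro y hy
    have hm := (O : Scheme.{u}).basicOpen_le e hy
    have h : y ∈ (((E.comap c).comap s).support : Set ↥(O : Scheme.{u})) := by
      rw [SetLike.mem_coe, Scheme.IdealSheafData.mem_support_iff_of_mem (U := ⟨N, hN⟩) hm, Scheme.mem_zeroLocus_iff]
      intro g hg hyg
      have h0 : e * g = 0 := he0 g hg
      have h1 := congrArg ((O : Scheme.{u}).presheaf.germ N y hm) h0
      rw [map_mul, map_zero] at h1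
      rw [Scheme.mem_basicOpen _ _ y hm] at hy hyg
      exact not_isUnit_zero (h1 ▸ hy.mul hyg)
    rw [Scheme.IdealSheafData.support_comap] at h
    have h' : s y ∈ ((E.comap c).support : Set X₁') := h
    rw [Scheme.IdealSheafData.support_comap] at h'
    exact h'
  obtain ⟨_, ⟨y, hy, rfl⟩, hyV⟩ := mem_closure_iff.mp ht _
    (O.ι.isOpenEmbedding.isOpenMap _ ((O : Scheme.{u}).basicOpen e).isOpen) ⟨z, hze, rfl⟩
  refine hEV _ (hsub y hy) ?_
  show c (b (O.ι y)) ∈ V₁
  rw [← show q (a (O.ι y)) = c (b (O.ι y)) from congr($hab (O.ι y))]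
  exact hyV

/-- A finite wide fibre product of proper morphisms is proper. -/
theorem isProper_widePullback_base {S : Scheme.{u}} :
    ∀ {m : ℕ} (X : Fin m → Scheme.{u}) (g : ∀ i, X i ⟶ S) [∀ i, IsProper (g i)],
      IsProper (WidePullback.base g) := by
  intro m
  induction m with
  | zero =>
    intro X g _
    haveI : IsIso (WidePullback.base g) := by
      refine ⟨WidePullback.lift (𝟙 S) (fun i => i.elim0) (fun i => i.elim0), ?_, WidePullback.lift_base ..⟩
      exact WidePullback.hom_ext _ _ _ (fun i => i.elim0)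
        (by rw [Category.assoc, WidePullback.lift_base, Category.comp_id, Category.id_comp])
    infer_instance
  | succ m ih =>
    intro X g _
    haveI := ih (fun i => X i.castSucc) (fun i => g i.castSucc)
    let r : widePullback S X g ⟶ widePullback S (fun i : Fin m => X i.castSucc) (fun i => g i.castSucc) :=
      WidePullback.lift (WidePullback.base g) (fun i => WidePullback.π g i.castSucc) (fun i => WidePullback.π_arrow g _)
    let e : widePullback S X g ⟶ pullback (WidePullback.base (fun i : Fin m => g i.castSucc)) (g (Fin.last m)) :=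
      pullback.lift r (WidePullback.π g (Fin.last m))
        (by simp only [r, WidePullback.lift_base, WidePullback.π_arrow])
    let e' : pullback (WidePullback.base (fun i : Fin m => g i.castSucc)) (g (Fin.last m)) ⟶ widePullback S X g :=
      WidePullback.lift (pullback.fst _ _ ≫ WidePullback.base _)
        (fun i => Fin.lastCases (pullback.snd _ _) (fun j => pullback.fst _ _ ≫ WidePullback.π _ j) i)
        (fun i => by
          refine Fin.lastCases ?_ (fun j => ?_) i
          · rw [Fin.lastCases_last, ← pullback.condition]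
          · rw [Fin.lastCases_castSucc, Category.assoc, WidePullback.π_arrow])
    haveI : IsIso e := by
      refine ⟨e', WidePullback.hom_ext _ _ _ (fun i => ?_) ?_, pullback.hom_ext ?_ ?_⟩
      · refine Fin.lastCases ?_ (fun j => ?_) i
        · rw [Category.assoc, WidePullback.lift_π, Fin.lastCases_last, pullback.lift_snd, Category.id_comp]
        · rw [Category.assoc, WidePullback.lift_π, Fin.lastCases_castSucc, pullback.lift_fst_assoc,
            WidePullback.lift_π, Category.id_comp]
      · rw [Category.assoc, WidePullback.lift_base, pullback.lift_fst_assoc, WidePullback.lift_base, Category.id_comp]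
      · rw [Category.assoc, pullback.lift_fst, Category.id_comp]
        refine WidePullback.hom_ext _ _ _ (fun i => ?_) ?_
        · rw [Category.assoc, WidePullback.lift_π, WidePullback.lift_π, Fin.lastCases_castSucc]
        · rw [Category.assoc, WidePullback.lift_base, WidePullback.lift_base]
      · rw [Category.assoc, pullback.lift_snd, WidePullback.lift_π, Fin.lastCases_last, Category.id_comp]
    rw [show WidePullback.base g = e ≫ pullback.fst _ _ ≫ WidePullback.base (fun i : Fin m => g i.castSucc) by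
      rw [pullback.lift_fst_assoc, WidePullback.lift_base]]
    infer_instance

end RGSepLib
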