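import Groth.Agent.RGSepLib.Core
import Groth.Agent.NagataCompLib.GluePair
import Groth.Agent.LocImmLib.Modify

/-! Separating closed subsets on compactifications. -/

set_option autoImplicit false
universe u

open CategoryTheory CategoryTheory.Limits AlgebraicGeometry TopologicalSpace

namespace RGSepLib

variable {S X U : Scheme.{u}} {m : ℕ} {Xi Xb : Fin m → Scheme.{u}}

/-- Blow-ups of the compactifications, admissible for the given models, receiving the common open. -/
structure Mod (o : ∀ i, Xi i ⟶ Xb i) [∀ i, IsOpenImmersion (o i)] (v : ∀ i, U ⟶ Xi i) (i : Fin m) where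
  X' : Scheme.{u}
  c : X' ⟶ Xb i
  E : (Xb i).IdealSheafData
  v' : U ⟶ X'
  blowUp : BlowUp.IsBlowUp c E
  adm : BlowUp.IsAdmissibleFor (o i).opensRange E
  fac : v' ≫ c = v i ≫ o i

/-- A quasi-compact open between a compact set and an open containing it. -/
theorem exists_compact_between {Z : Scheme.{u}} {C : Set Z} (hC : IsCompact C) {O : Set Z} (hO : IsOpen O)
    (hCO : C ⊆ O) : ∃ W : Z.Opens, IsCompact (W : Set Z) ∧ C ⊆ W ∧ (W : Set Z) ⊆ O := by
  classical
  choose A hA hxA hAO using fun p : C => exists_isAffineOpen_mem_and_subset (x := p.1) (U := ⟨O, hO⟩) (hCO p.2)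
  obtain ⟨t, ht⟩ := hC.elim_finite_subcover (fun p => ((A p : Z.Opens) : Set Z)) (fun p => (A p).isOpen)
    (fun p hp => Set.mem_iUnion.mpr ⟨⟨p, hp⟩, hxA ⟨p, hp⟩⟩)
  refine ⟨t.sup A, ?_, fun p hp => ?_, ?_⟩
  · rw [show ((t.sup A : Z.Opens) : Set Z) = ⋃ p ∈ t, (A p : Set Z) by rw [Finset.sup_eq_iSup]; simp]
    exact t.finite_toSet.isCompact_biUnion fun p _ => (hA p).isCompact
  · obtain ⟨q, hq, hpq⟩ := Set.mem_iUnion₂.mp (ht hp)
    exact Finset.le_sup (f := A) hq hpq
  · exact fun z hz => (Finset.sup_le fun p _ => hAO p : t.sup A ≤ ⟨O, hO⟩) hz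

theorem exists_separation [CompactSpace S] [QuasiSeparatedSpace S] (gX : X ⟶ S) [IsSeparated gX]
    (gb : ∀ i, Xb i ⟶ S) [∀ i, IsProper (gb i)]
    (o : ∀ i, Xi i ⟶ Xb i) [∀ i, IsOpenImmersion (o i)] [∀ i, QuasiCompact (o i)]
    (q : ∀ i, Xi i ⟶ X) [∀ i, IsProper (q i)] (hq : ∀ i, q i ≫ gX = o i ≫ gb i)
    (jU : U ⟶ X) (v : ∀ i, U ⟶ Xi i) (hv : ∀ i, v i ≫ q i = jU)
    (w : ∀ i, (v i ≫ o i) ≫ gb i = jU ≫ gX)
    (Y : ∀ i, (Xi i).IdealSheafData) (hY : ∀ i, BlowUp.IsFiniteTypeIdeal (Y i))
    (hempty : ∀ z ∈ closure (Set.range (fun x => (WidePullback.lift (jU ≫ gX) (fun i => v i ≫ o i) w) x)),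
      ∃ i, (WidePullback.π gb i) z ∉ (fun x => o i x) '' ((Y i).support : Set (Xi i))) :
    ∃ (𝓔 : ∀ i, (Xb i).IdealSheafData) (Xb' : Fin m → Scheme.{u}) (c : ∀ i, Xb' i ⟶ Xb i)
      (v' : ∀ i, U ⟶ Xb' i) (w' : ∀ i, v' i ≫ c i ≫ gb i = jU ≫ gX),
      (∀ i, BlowUp.IsBlowUp (c i) (𝓔 i) ∧ BlowUp.IsAdmissibleFor (o i).opensRange (𝓔 i) ∧
        v' i ≫ c i = v i ≫ o i) ∧
      ∀ z ∈ closure (Set.range (fun x => (WidePullback.lift (jU ≫ gX) (fun i => v' i) w') x)),
        ∃ i, (WidePullback.π (fun i => c i ≫ gb i) i) z ∉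
          closure ((fun y => c i y) ⁻¹' ((fun x => o i x) '' ((Y i).support : Set (Xi i)))) := by
  classical
  haveI : ∀ i, CompactSpace (Xb i) := fun i => QuasiCompact.compactSpace_of_compactSpace (gb i)
  haveI : ∀ i, QuasiSeparatedSpace (Xb i) := fun i => quasiSeparatedSpace_of_quasiSeparated (gb i)
  haveI : ∀ i, CompactSpace (Xi i) := fun i => QuasiCompact.compactSpace_of_compactSpace (o i)
  let T : ∀ i, Set (Xb i) := fun i => (fun x => o i x) '' ((Y i).support : Set (Xi i))
  have hT : ∀ i, ∀ y ∈ closure (T i), y ∈ (o i).opensRange → y ∈ T i := by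
    rintro i _ hy ⟨x, rfl⟩
    have : x ∈ closure ((Y i).support : Set (Xi i)) := by
      rw [(o i).isOpenEmbedding.isInducing.closure_eq_preimage_closure_image]
      exact hy
    rw [(Y i).support.isClosed.closure_eq] at this
    exact ⟨x, this, rfl⟩
  have hext : ∀ i, ∃ J : (Xb i).IdealSheafData, BlowUp.IsFiniteTypeIdeal J ∧
      (J.support : Set (Xb i)) ∩ ((o i).opensRange : Set (Xb i)) = T i := by
    intro i
    have hV : IsCompact ((o i).opensRange : Set (Xb i)) := by
      rw [Scheme.Hom.coe_opensRange]; exact isCompact_range (o i).continuous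
    obtain ⟨J, ⟨hJ, -⟩, hJI⟩ := RGFlatLib.exists_extend_ideal_global (⊥ : (Xb i).Opens) (by simp)
      (o i).opensRange hV ((Y i).comap (o i).isoOpensRange.inv) (RGFlatLib.isFiniteTypeIdeal_comap (hY i) _)
      (by simp)
    refine ⟨J, hJ, ?_⟩
    have h : ∀ z : (o i).opensRange, z.1 ∈ (J.support : Set (Xb i)) ↔
        (o i).isoOpensRange.inv z ∈ ((Y i).support : Set (Xi i)) := by
      intro z
      have := congrArg (fun I : ((o i).opensRange : Scheme.{u}).IdealSheafData => ((I.support : Closeds ((o i).opensRange : Scheme.{u})) : Set ((o i).opensRange : Scheme.{u}))) hJI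
      simp only [Scheme.IdealSheafData.support_comap] at this
      exact Set.ext_iff.mp this z
    have ho : ∀ z : (o i).opensRange, o i ((o i).isoOpensRange.inv z) = z.1 := fun z =>
      congr($(Scheme.Hom.isoOpensRange_inv_comp (o i)) z)
    ext y
    constructor
    · rintro ⟨hyJ, hyV⟩
      exact ⟨_, (h ⟨y, hyV⟩).mp hyJ, ho ⟨y, hyV⟩⟩
    · rintro ⟨x, hx, rfl⟩
      refine ⟨(h ⟨o i x, ⟨x, rfl⟩⟩).mpr ?_, ⟨x, rfl⟩⟩
      rw [show (o i).isoOpensRange.inv ⟨o i x, ⟨x, rfl⟩⟩ = x from (o i).isOpenEmbedding.injective (ho _)]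
      exact hx
  choose J hJ hJT using hext
  haveI hPb : ∀ (D : ∀ i, Mod o v i) (i : Fin m), IsProper ((D i).c ≫ gb i) := fun D i => by
    haveI := BlowUpLib.isProper_of_isBlowUp (D i).blowUp (D i).adm.1
    infer_instance
  -- being over the models does not depend on the index
  let P₀ := widePullback S Xb gb
  let lift₀ : U ⟶ P₀ := WidePullback.lift (jU ≫ gX) (fun i => v i ≫ o i) w
  have hequiv : ∀ z ∈ closure (Set.range lift₀), ∀ i j,
      WidePullback.π gb i z ∈ (o i).opensRange → WidePullback.π gb j z ∈ (o j).opensRange := by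
    intro z hz i j hzi
    let Ω : P₀.Opens := WidePullback.π gb i ⁻¹ᵁ (o i).opensRange
    let ρ : Xi j ⟶ pullback gX (gb j) := pullback.lift (q j) (o j) (hq j)
    haveI : IsProper ρ := by
      haveI : IsProper (ρ ≫ pullback.fst gX (gb j)) := by rw [pullback.lift_fst]; infer_instance
      exact IsProper.of_comp ρ (pullback.fst gX (gb j))
    let li : (Ω : Scheme.{u}) ⟶ Xi i := IsOpenImmersion.lift (o i) (Ω.ι ≫ WidePullback.π gb i)
      (by rintro _ ⟨t, rfl⟩; exact t.2)
    have hli : li ≫ o i = Ω.ι ≫ WidePullback.π gb i := IsOpenImmersion.lift_fac _ _ _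
    let Φ : (Ω : Scheme.{u}) ⟶ pullback gX (gb j) := pullback.lift (li ≫ q i) (Ω.ι ≫ WidePullback.π gb j) (by
      rw [Category.assoc, hq, reassoc_of% hli, WidePullback.π_arrow, Category.assoc, WidePullback.π_arrow])
    have hΩ : Set.range lift₀ ⊆ Ω := by
      rintro _ ⟨x, rfl⟩
      show WidePullback.π gb i (lift₀ x) ∈ (o i).opensRange
      rw [← Scheme.Hom.comp_apply, WidePullback.lift_π]
      exact ⟨_, rfl⟩
    let u' : U ⟶ (Ω : Scheme.{u}) := IsOpenImmersion.lift Ω.ι lift₀ (by rw [Scheme.Opens.range_ι]; exact hΩ)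
    have hu' : u' ≫ Ω.ι = lift₀ := IsOpenImmersion.lift_fac _ _ _
    have hul : u' ≫ li = v i := by
      rw [← cancel_mono (o i), Category.assoc, hli, reassoc_of% hu', WidePullback.lift_π]
    have hcomp : u' ≫ Φ = v j ≫ ρ := by
      apply pullback.hom_ext
      · rw [Category.assoc, pullback.lift_fst, Category.assoc, pullback.lift_fst, reassoc_of% hul, hv, hv]
      · rw [Category.assoc, pullback.lift_snd, Category.assoc, pullback.lift_snd, reassoc_of% hu', WidePullback.lift_π]
    have hmem : (⟨z, hzi⟩ : ↥(Ω : Scheme.{u})) ∈ closure (Set.range u') := by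
      rw [Ω.ι.isOpenEmbedding.isInducing.closure_eq_preimage_closure_image]
      show Ω.ι (⟨z, hzi⟩ : ↥(Ω : Scheme.{u})) ∈ closure (Ω.ι '' Set.range u')
      rw [← Set.range_comp, ← TopCat.coe_comp, ← Scheme.Hom.comp_base, hu']
      exact hz
    have hρ : IsClosed (Set.range ρ) := by
      rw [← Set.image_univ]
      exact ρ.isClosedMap _ isClosed_univ
    obtain ⟨x, hx⟩ : Φ ⟨z, hzi⟩ ∈ Set.range ρ := by
      refine closure_minimal ?_ (hρ.preimage Φ.continuous) hmem
      rintro _ ⟨x, rfl⟩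
      exact ⟨v j x, congr($hcomp x).symm⟩
    refine ⟨x, ?_⟩
    have h1 : (ρ ≫ pullback.snd gX (gb j)) x = (Φ ≫ pullback.snd gX (gb j)) ⟨z, hzi⟩ :=
      congrArg (pullback.snd gX (gb j)) hx
    rw [pullback.lift_snd, pullback.lift_snd] at h1
    exact h1
  -- data on modified compactifications
  have wD : ∀ (D : ∀ i, Mod o v i) i, (D i).v' ≫ (D i).c ≫ gb i = jU ≫ gX := fun D i => by
    rw [reassoc_of% (D i).fac, ← w i, Category.assoc]
  let lft : ∀ D : ∀ i, Mod o v i, U ⟶ widePullback S (fun i => (D i).X') (fun i => (D i).c ≫ gb i) := fun D =>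
    WidePullback.lift (jU ≫ gX) (fun i => (D i).v') (wD D)
  let μ : ∀ D : ∀ i, Mod o v i, widePullback S (fun i => (D i).X') (fun i => (D i).c ≫ gb i) ⟶ P₀ := fun D =>
    WidePullback.lift (WidePullback.base _) (fun i => WidePullback.π (fun i => (D i).c ≫ gb i) i ≫ (D i).c)
      (fun i => by rw [Category.assoc]; exact WidePullback.π_arrow (fun i => (D i).c ≫ gb i) i)
  have hμπ : ∀ (D : ∀ i, Mod o v i) i z, WidePullback.π gb i (μ D z) =
      (D i).c (WidePullback.π (fun i => (D i).c ≫ gb i) i z) := fun D i z => by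
    rw [← Scheme.Hom.comp_apply, WidePullback.lift_π, Scheme.Hom.comp_apply]
  have hμl : ∀ D : ∀ i, Mod o v i, lft D ≫ μ D = lift₀ := fun D => WidePullback.hom_ext _ _ _
    (fun i => by rw [Category.assoc, WidePullback.lift_π, WidePullback.lift_π_assoc, (D i).fac, WidePullback.lift_π])
    (by rw [Category.assoc, WidePullback.lift_base, WidePullback.lift_base, WidePullback.lift_base])
  let C : ∀ (D : ∀ i, Mod o v i) (i : Fin m), Set ↥(widePullback S (fun i => (D i).X') (fun i => (D i).c ≫ gb i)) :=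
    fun D i => WidePullback.π (fun i => (D i).c ≫ gb i) i ⁻¹' closure ((D i).c ⁻¹' T i)
  let G : ∀ (D : ∀ i, Mod o v i) (k : ℕ), Set ↥(widePullback S (fun i => (D i).X') (fun i => (D i).c ≫ gb i)) :=
    fun D k => {z | z ∈ closure (Set.range (lft D)) ∧
      (∀ i, WidePullback.π gb i (μ D z) ∈ (o i).opensRange) ∧
      ∀ i : Fin m, k ≤ i → WidePullback.π gb i (μ D z) ∈ T i}
  have hZ₀ : ∀ (D : ∀ i, Mod o v i) z, z ∈ closure (Set.range (lft D)) → μ D z ∈ closure (Set.range lift₀) := by
    intro D z hz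
    refine closure_mono ?_ (image_closure_subset_closure_image (μ D).continuous ⟨z, hz, rfl⟩)
    rintro _ ⟨_, ⟨x, rfl⟩, rfl⟩
    exact ⟨x, congr($(hμl D) x).symm⟩
  have step : ∀ k : ℕ, k ≤ m → ∃ D : ∀ i, Mod o v i,
      ∀ z ∈ closure (G D k), ∃ i : Fin m, (i : ℕ) < k ∧ z ∉ C D i := by
    intro k
    induction k with
    | zero =>
      intro _
      have h0 : ∀ i, ∃ D : Mod o v i, True := fun i => by
        obtain ⟨X', c, hc⟩ := BlowUpLib.exists_isBlowUp (Xb i) ⊤
        have had : BlowUp.IsAdmissibleFor (o i).opensRange (⊤ : (Xb i).IdealSheafData) :=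
          ⟨fun W => by rw [Scheme.IdealSheafData.ideal_top, Pi.top_apply]; exact ⟨{1}, by simp⟩,
            by simp [Scheme.IdealSheafData.support_top]⟩
        obtain ⟨v', hv'⟩ := Groth.Agent.LocImmLib.exists_lift hc (v i ≫ o i)
          (by simp [Scheme.IdealSheafData.support_top])
        exact ⟨⟨X', c, ⊤, v', hc, had, hv'⟩, trivial⟩
      choose D hD using h0
      refine ⟨D, fun z hz => ?_⟩
      have hG : G D 0 = ∅ := Set.eq_empty_iff_forall_notMem.mpr fun y ⟨hy, _, hy'⟩ => by
        obtain ⟨i, hi⟩ := hempty _ (hZ₀ D y hy)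
        exact hi (hy' i (Nat.zero_le _))
      rw [hG, closure_empty] at hz
      exact hz.elim
    | succ k ih =>
      intro hk
      obtain ⟨D, hD⟩ := ih (Nat.le_of_succ_le hk)
      let i₀ : Fin m := ⟨k, hk⟩
      let g : ∀ i, (D i).X' ⟶ S := fun i => (D i).c ≫ gb i
      let P := widePullback S (fun i => (D i).X') g
      haveI := isProper_widePullback_base (fun i => (D i).X') g
      haveI : CompactSpace P := QuasiCompact.compactSpace_of_compactSpace (WidePullback.base g)
      let F : Closeds P := ⟨closure (G D (k + 1)), isClosed_closure⟩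
      let X₂ := (Scheme.IdealSheafData.vanishingIdeal F).subscheme
      let ι : X₂ ⟶ P := (Scheme.IdealSheafData.vanishingIdeal F).subschemeι
      have hι : Set.range ι = closure (G D (k + 1)) := by
        rw [Scheme.IdealSheafData.range_subschemeι, Scheme.IdealSheafData.coe_support_vanishingIdeal]
        rfl
      haveI : CompactSpace X₂ := QuasiCompact.compactSpace_of_compactSpace ι
      haveI := BlowUpLib.isProper_of_isBlowUp (D i₀).blowUp (D i₀).adm.1
      haveI : CompactSpace (D i₀).X' := QuasiCompact.compactSpace_of_compactSpace (D i₀).c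
      haveI : QuasiSeparatedSpace (D i₀).X' := quasiSeparatedSpace_of_quasiSeparated (D i₀).c
      let V₁ : (D i₀).X'.Opens := (D i₀).c ⁻¹ᵁ (o i₀).opensRange
      have hV₁ : IsCompact (V₁ : Set (D i₀).X') := (D i₀).c.isCompact_preimage (by
        rw [Scheme.Hom.coe_opensRange]; exact isCompact_range (o i₀).continuous)
      have hJV : (((J i₀).comap (D i₀).c).support : Set (D i₀).X') ∩ (V₁ : Set (D i₀).X') = (D i₀).c ⁻¹' T i₀ := by
        rw [Scheme.IdealSheafData.support_comap, ← hJT i₀]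
        rfl
      -- the part to be avoided
      let Cl : Set X₂ := ι ⁻¹' ⋂ (i : Fin m) (_ : (i : ℕ) < k), C D i
      have hCl : IsClosed Cl := IsClosed.preimage ι.continuous
        (isClosed_iInter fun i => isClosed_iInter fun _ => isClosed_closure.preimage
          (WidePullback.π (fun i => (D i).c ≫ gb i) i).continuous)
      let O : Set X₂ := (ι ⁻¹' closure (G D k))ᶜ
      have hClO : Cl ⊆ O := fun y hy hyG => by
        obtain ⟨i, hi, hiC⟩ := hD _ hyG
        exact hiC (Set.mem_iInter₂.mp hy i hi)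
      obtain ⟨W, hWc, hCW, hWO⟩ := exists_compact_between hCl.isCompact
        (isClosed_closure.preimage ι.continuous).isOpen_compl hClO
      let q₂ : X₂ ⟶ (D i₀).X' := ι ≫ WidePullback.π g i₀
      haveI : QuasiCompact q₂ := NagataCompLib.quasiCompact_of_compactSpace q₂
      have hGW : ∀ y ∈ closure (G D (k + 1)), WidePullback.π gb i₀ (μ D y) ∈ T i₀ → y ∈ G D k := by
        intro y hy hyT
        have hyZ : y ∈ closure (Set.range (lft D)) := closure_minimal (fun z hz => hz.1) isClosed_closure hy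
        have hyV : ∀ i, WidePullback.π gb i (μ D y) ∈ (o i).opensRange := fun i =>
          hequiv _ (hZ₀ D y hyZ) i₀ i (by obtain ⟨x, -, hx⟩ := hyT; exact ⟨x, hx⟩)
        refine ⟨hyZ, hyV, fun i hi => ?_⟩
        rcases eq_or_lt_of_le hi with h | h
        · obtain rfl : i = i₀ := Fin.ext h.symm
          exact hyT
        · refine hT i _ ?_ (hyV i)
          refine closure_mono ?_ (image_closure_subset_closure_image
            ((WidePullback.π gb i).continuous.comp (μ D).continuous) ⟨y, hy, rfl⟩)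
          rintro _ ⟨z, hz, rfl⟩
          exact hz.2.2 i h
      obtain ⟨E, hE, hsep⟩ := exists_center q₂ V₁ hV₁ ((J i₀).comap (D i₀).c)
        (RGFlatLib.isFiniteTypeIdeal_comap (hJ i₀) _) (W : Set X₂)ᶜ W.isOpen.isClosed_compl
        (by rw [compl_compl]; exact hWc) (by
          intro y hy hyV hyW
          have h1 : q₂ y ∈ (D i₀).c ⁻¹' T i₀ := hJV.le ⟨hy, hyV⟩
          refine hWO hyW (subset_closure (hGW (ι y) (hι.le ⟨y, rfl⟩) ?_))
          rw [hμπ]
          exact h1)
      obtain ⟨X'', γ, hγ⟩ := BlowUpLib.exists_isBlowUp (D i₀).X' E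
      obtain ⟨K, hK, hKb⟩ := RGFlatLib.exists_admissible_comp (D i₀).blowUp (D i₀).adm hγ hE
      obtain ⟨v'', hv''⟩ := Groth.Agent.LocImmLib.exists_lift hγ (D i₀).v' (by
        refine Set.disjoint_left.mpr ?_
        rintro _ hx ⟨x, rfl⟩
        refine Set.disjoint_left.mp hE.2 hx ?_
        show (D i₀).c ((D i₀).v' x) ∈ (o i₀).opensRange
        rw [← Scheme.Hom.comp_apply, (D i₀).fac]
        exact ⟨_, rfl⟩)
      have hnew : ∀ i, ∃ (D' : Mod o v i) (φ : D'.X' ⟶ (D i).X'), φ ≫ (D i).c = D'.c ∧ D'.v' ≫ φ = (D i).v' ∧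
          ∀ h : i = i₀, ∀ (R : Scheme.{u}) (a : R ⟶ X₂) (b : R ⟶ D'.X'),
            a ≫ ι ≫ WidePullback.π g i = b ≫ φ →
            ∀ t : R, t ∈ closure {y | q₂ (a y) ∈ V₁} → b t ∈ closure (D'.c ⁻¹' T i) → a t ∉ W := by
        intro i
        by_cases h : i = i₀
        · subst h
          refine ⟨⟨X'', γ ≫ (D i₀).c, K, v'', hKb, hK, by rw [reassoc_of% hv'', (D i₀).fac]⟩, γ, rfl, hv'',
            fun _ R a b hab t ht hbt => ?_⟩
          refine hsep X'' γ hγ R a b hab t ht ?_
          rw [hJV]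
          exact hbt
        · exact ⟨D i, 𝟙 _, Category.id_comp _, Category.comp_id _, fun h' => absurd h' h⟩
      choose D' φ hφc hφv hφsep using hnew
      refine ⟨D', fun z hz => ?_⟩
      let g' : ∀ i, (D' i).X' ⟶ S := fun i => (D' i).c ≫ gb i
      let ν : widePullback S (fun i => (D' i).X') g' ⟶ P :=
        WidePullback.lift (WidePullback.base g') (fun i => WidePullback.π g' i ≫ φ i) (fun i => by
          simp only [g, Category.assoc, reassoc_of% hφc i]
          exact WidePullback.π_arrow g' i)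
      have hνl : lft D' ≫ ν = lft D := WidePullback.hom_ext _ _ _
        (fun i => by rw [Category.assoc, WidePullback.lift_π, WidePullback.lift_π_assoc, hφv, WidePullback.lift_π])
        (by rw [Category.assoc, WidePullback.lift_base, WidePullback.lift_base, WidePullback.lift_base])
      have hνμ : ν ≫ μ D = μ D' := WidePullback.hom_ext _ _ _
        (fun i => by
          rw [Category.assoc, WidePullback.lift_π, WidePullback.lift_π_assoc, WidePullback.lift_π, Category.assoc,
            hφc i])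
        (by rw [Category.assoc, WidePullback.lift_base, WidePullback.lift_base, WidePullback.lift_base])
      have hνG : ∀ y ∈ G D' (k + 1), ν y ∈ G D (k + 1) := by
        rintro y ⟨hy, hyV, hyT⟩
        have e : μ D (ν y) = μ D' y := congr($hνμ y)
        refine ⟨?_, fun i => e ▸ hyV i, fun i hi => e ▸ hyT i hi⟩
        refine closure_mono ?_ (image_closure_subset_closure_image ν.continuous ⟨y, hy, rfl⟩)
        rintro _ ⟨_, ⟨x, rfl⟩, rfl⟩
        exact ⟨x, congr($hνl x).symm⟩
      have hrng : Set.range (pullback.fst ν ι) = ν ⁻¹' closure (G D (k + 1)) := by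
        rw [Scheme.Pullback.range_fst, hι]
      obtain ⟨t, ht⟩ : z ∈ Set.range (pullback.fst ν ι) := by
        rw [hrng]
        exact closure_minimal (show G D' (k + 1) ⊆ ν ⁻¹' closure (G D (k + 1)) from fun y hy => subset_closure (hνG y hy))
          (isClosed_closure.preimage ν.continuous) hz
      by_cases hW : pullback.snd ν ι t ∈ W
      · -- separated from the new closure
        refine ⟨i₀, Nat.lt_succ_self k, fun hzC => hφsep i₀ rfl _ (pullback.snd ν ι)
          (pullback.fst ν ι ≫ WidePullback.π g' i₀) ?_ t ?_ ?_ hW⟩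
        · rw [← pullback.condition_assoc, WidePullback.lift_π, Category.assoc]
        · have h1 : t ∈ closure (pullback.fst ν ι ⁻¹' G D' (k + 1)) := by
            rw [(pullback.fst ν ι).isClosedEmbedding.isInducing.closure_eq_preimage_closure_image,
              Set.mem_preimage, Set.image_preimage_eq_inter_range, ht]
            exact closure_mono (show G D' (k + 1) ⊆ G D' (k + 1) ∩ Set.range (pullback.fst ν ι) from
              fun y hy => ⟨hy, hrng.ge (subset_closure (hνG y hy))⟩) hz
          refine closure_mono (fun y hy => ?_) h1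
          show (D i₀).c (WidePullback.π g i₀ (ι (pullback.snd ν ι y))) ∈ (o i₀).opensRange
          rw [← hμπ D i₀, show ι (pullback.snd ν ι y) = ν (pullback.fst ν ι y) from
            (congr($(pullback.condition (f := ν) (g := ι)) y)).symm,
            show μ D (ν (pullback.fst ν ι y)) = μ D' (pullback.fst ν ι y) from congr($hνμ _)]
          exact hy.2.1 i₀
        · show WidePullback.π g' i₀ (pullback.fst ν ι t) ∈ _
          rw [ht]
          exact hzC
      · -- separated by an earlier step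
        have hy : ¬ ∀ (i : Fin m), (i : ℕ) < k → ι (pullback.snd ν ι t) ∈ C D i := fun h =>
          hW (hCW (Set.mem_iInter₂.mpr h))
        push Not at hy
        obtain ⟨i, hi, hiC⟩ := hy
        refine ⟨i, Nat.lt_succ_of_lt hi, fun hzC => hiC ?_⟩
        rw [show ι (pullback.snd ν ι t) = ν (pullback.fst ν ι t) from
          (congr($(pullback.condition (f := ν) (g := ι)) t)).symm, ht]
        show WidePullback.π g i (ν z) ∈ closure ((D i).c ⁻¹' T i)
        rw [← Scheme.Hom.comp_apply, WidePullback.lift_π, Scheme.Hom.comp_apply]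
        refine closure_mono ?_ (image_closure_subset_closure_image (φ i).continuous ⟨_, hzC, rfl⟩)
        rintro _ ⟨y, hy, rfl⟩
        show (D i).c (φ i y) ∈ T i
        rw [← Scheme.Hom.comp_apply, hφc i]
        exact hy
  obtain ⟨D, hD⟩ := step m le_rfl
  refine ⟨fun i => (D i).E, fun i => (D i).X', fun i => (D i).c, fun i => (D i).v', wD D,
    fun i => ⟨(D i).blowUp, (D i).adm, (D i).fac⟩, fun z hz => ?_⟩
  have hzG : z ∈ closure (G D m) := by
    refine closure_mono ?_ hz
    rintro _ ⟨x, rfl⟩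
    refine ⟨subset_closure ⟨x, rfl⟩, fun i => ?_, fun i hi => absurd i.2 (Nat.not_lt.mpr hi)⟩
    show WidePullback.π gb i ((lft D ≫ μ D) x) ∈ _
    rw [hμl, ← Scheme.Hom.comp_apply, WidePullback.lift_π]
    exact ⟨_, rfl⟩
  obtain ⟨i, -, hi⟩ := hD z hzG
  exact ⟨i, hi⟩

end RGSepLib
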